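import Mathlib
import Cfsg.Prelude.Def_KGroupFacts
import Cfsg.Agent.H254.CopCard_m3
import Cfsg.Agent.S0003
import Cfsg.Agent.H545.LT.Defs_m3
import Cfsg.Agent.H545.PQ.RowTool
import Cfsg.Agent.H545.LT.SylGL
import Cfsg.Prelude.Def_Classical
import Cfsg.Agent.H72.AdjPSL
import Cfsg.Agent.H130.Homo
import Cfsg.Agent.ClassicalGeometry.PSL2Basic
import Cfsg.Agent.FastGrp
import Cfsg.Agent.Prune
set_option linter.all false

section
prune_inst 0x7f00000000000000000000000000000000000000000000000000000000000000000000000000000000000000000000000000000000000000000000000000000000000000000000000000000000000000003fffffffffffffffffffffffffffbeffbdffffffff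

-- part: H545/LT/RowPSL
section
set_option linter.all false
open scoped Cfsg.Agent.FastGrp

-- part: H545/LT/Main
section
/-!
# The general argument for S4232

`main` : `S` finite with trivial centre, `FieldAct S K L` with `K ⊆ L` (for the primes), abelian Sylow subgroups outside `K`, and the
conclusion for the pairs of primes in `K`; then the conclusion for all pairs of primes and all groups between `Inn S` and `Aut S`.
-/

set_option autoImplicit false

namespace Cfsg.Agent.H545.LT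

open Cfsg.Agent.H545.PQ Subgroup

universe u v

section cyc

variable {Γ : Type v} [Group Γ] {M : Type u} [Group M] [Finite M] (f : Γ →* M)

/-- Lifting of elements with the same order. -/
theorem exists_lift {N : ℕ} (hN : N.Coprime (Nat.card f.ker)) {c : M} (hc : c ∈ f.range) (ho : orderOf c = N) :
    ∃ γ : Γ, f γ = c ∧ orderOf γ = N := by
  obtain ⟨γ, rfl⟩ := hc
  set k := Nat.card f.ker with hk
  have hN0 : N ≠ 0 := by rw [← ho]; exact (orderOf_pos _).ne'
  obtain ⟨e, he1, he2⟩ := Nat.chineseRemainder hN 1 0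
  have h1 : f (γ ^ e) = f γ := by
    rw [map_pow]
    conv_rhs => rw [← pow_one (f γ)]
    rw [pow_eq_pow_iff_modEq, ho]
    exact he1
  refine ⟨γ ^ e, h1, ?_⟩
  apply Nat.dvd_antisymm
  · apply orderOf_dvd_of_pow_eq_one
    have h2 : γ ^ N ∈ f.ker := by
      rw [MonoidHom.mem_ker, map_pow, ← ho, pow_orderOf_eq_one]
    have h3 : (γ ^ N) ^ k = 1 := by
      have := pow_card_eq_one' (x := (⟨γ ^ N, h2⟩ : f.ker))
      exact congrArg Subtype.val this
    obtain ⟨m, hm⟩ := (Nat.modEq_zero_iff_dvd.1 he2)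
    rw [← pow_mul, mul_comm e N, pow_mul, hm, pow_mul, h3, one_pow]
  · rw [← ho, ← h1]
    exact orderOf_map_dvd f _

end cyc

variable {S : Type u} [Group S]

theorem conj_injective (hc : center S = ⊥) : Function.Injective (MulAut.conj : S →* MulAut S) := by
  rw [injective_iff_map_eq_one]
  intro x hx
  have h2 : x ∈ center S := by
    rw [mem_center_iff]
    intro g
    have h3 := DFunLike.congr_fun hx g
    rw [MulAut.conj_apply, MulAut.one_apply, mul_inv_eq_iff_eq_mul] at h3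
    exact h3.symm
  rw [hc] at h2
  exact mem_bot.1 h2

variable [Finite S]

theorem finite_mulAut : Finite (MulAut S) :=
  Finite.of_injective (fun f : S ≃* S => (f : S → S)) DFunLike.coe_injective

/-- The group of field automorphisms covers the Hall subgroups for the primes outside `K`. -/
theorem exists_conj_mem {K : Set ℕ} {Γ : Type} [Group Γ] [Finite Γ] [IsCyclic Γ] {Ψ : Γ →* MulAut S}
    (hsol : Group.IsSolvable (Cfsg.Out S))
    (h1 : ∀ γ : Γ, (orderOf γ).Prime → orderOf γ ∉ K → Ψ γ ∉ Cfsg.Inn S)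
    (h2 : ∀ p : ℕ, p.Prime → p ∉ K → ∀ k : ℕ, p ^ k ∣ Nat.card (Cfsg.Out S) → p ^ k ∣ Nat.card Γ)
    {H : Subgroup (MulAut S)} (hH : Cfsg.Inn S ≤ H) {N : ℕ} (hNK : ∀ p : ℕ, p.Prime → p ∣ N → p ∉ K)
    (A : Subgroup (Cfsg.Out S)) (hA : A ≤ H.map (QuotientGroup.mk' (Cfsg.Inn S)))
    (hAK : ∀ p : ℕ, p.Prime → p ∣ Nat.card A → p ∉ K) (hNA : N ∣ Nat.card A) :
    ∃ (γ : Γ) (g : MulAut S), orderOf γ = N ∧ orderOf (Ψ γ) = N ∧ g⁻¹ * Ψ γ * g ∈ H := by
  have hfin : Finite (MulAut S) := finite_mulAut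
  set π := QuotientGroup.mk' (Cfsg.Inn S) with hπ
  set f : Γ →* Cfsg.Out S := π.comp Ψ with hf
  -- the kernel is prime to the primes outside K
  have hker : ∀ p : ℕ, p.Prime → p ∉ K → ¬ p ∣ Nat.card f.ker := by
    intro p hp hpK hd
    have : Fact p.Prime := ⟨hp⟩
    obtain ⟨x, hx⟩ := exists_prime_orderOf_dvd_card' p hd
    have h3 : orderOf (x : Γ) = p := by rw [Subgroup.orderOf_coe, hx]
    refine h1 x (by rw [h3]; exact hp) (by rw [h3]; exact hpK) ?_
    have h4 : f (x : Γ) = 1 := x.2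
    exact (QuotientGroup.eq_one_iff _).1 h4
  have hcard : Nat.card f.ker * Nat.card f.range = Nat.card Γ := by
    have h3 := Subgroup.card_mul_index f.ker
    rwa [Subgroup.index_ker] at h3
  -- the index of the image
  have hidx : ∀ p : ℕ, p.Prime → p ∉ K → ¬ p ∣ f.range.index := by
    intro p hp hpK hd
    have : Fact p.Prime := ⟨hp⟩
    have h3 := Subgroup.card_mul_index f.range
    have hO : Nat.card (Cfsg.Out S) ≠ 0 := Nat.card_pos.ne'
    have hr0 : Nat.card f.range ≠ 0 := Nat.card_pos.ne'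
    have hi0 : f.range.index ≠ 0 := Subgroup.index_ne_zero_of_finite
    have hk0 : Nat.card f.ker ≠ 0 := Nat.card_pos.ne'
    have h4 : (Nat.card (Cfsg.Out S)).factorization p = (Nat.card f.range).factorization p + f.range.index.factorization p := by
      rw [← h3, Nat.factorization_mul hr0 hi0]; rfl
    have h5 : (Nat.card Γ).factorization p = (Nat.card f.range).factorization p := by
      rw [← hcard, Nat.factorization_mul hk0 hr0, Finsupp.add_apply,
        Nat.factorization_eq_zero_of_not_dvd (hker p hp hpK), zero_add]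
    have h6 := h2 p hp hpK _ (Nat.ordProj_dvd (Nat.card (Cfsg.Out S)) p)
    rw [hp.pow_dvd_iff_le_factorization Nat.card_pos.ne'] at h6
    have h7 : 0 < f.range.index.factorization p := hp.factorization_pos_of_dvd hi0 hd
    omega
  have hcyc : IsCyclic f.range := isCyclic_of_surjective f.rangeRestrict f.rangeRestrict_surjective
  have hAco : (Nat.card A).Coprime f.range.index := by
    rw [Nat.coprime_iff_gcd_eq_one]
    by_contra hne
    obtain ⟨p, hp, hd⟩ := Nat.exists_prime_and_dvd hne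
    exact hidx p hp (hAK p hp (hd.trans (Nat.gcd_dvd_left _ _))) (hd.trans (Nat.gcd_dvd_right _ _))
  obtain ⟨g, hg⟩ := H254.exists_conj_le_of_isSolvable hsol f.range (n := f.range.index) (fun p _ hd => hd) A hAco
  -- A is cyclic
  have hcA : IsCyclic A := by
    have h3 : IsCyclic (A.map (MulAut.conj g).toMonoidHom) :=
      isCyclic_of_injective (Subgroup.inclusion hg) (Subgroup.inclusion_injective hg)
    exact isCyclic_of_surjective _
      (A.equivMapOfInjective (MulAut.conj g).toMonoidHom (MulAut.conj g).injective).symm.surjective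
  obtain ⟨a, ha⟩ := hcA.exists_generator
  have hoa : orderOf a = Nat.card A := orderOf_eq_card_of_forall_mem_zpowers ha
  obtain ⟨m, hm⟩ := hNA
  have hm0 : m ≠ 0 := by rintro rfl; rw [mul_zero] at hm; exact Nat.card_pos.ne' hm
  have hN0 : N ≠ 0 := by rintro rfl; rw [zero_mul] at hm; exact Nat.card_pos.ne' hm
  have hob : orderOf ((a ^ m : A) : Cfsg.Out S) = N := by
    rw [Subgroup.orderOf_coe, orderOf_pow_of_dvd hm0 (by rw [hoa, hm]; exact dvd_mul_left _ _), hoa, hm,
      Nat.mul_div_cancel _ (Nat.pos_of_ne_zero hm0)]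
  set b : Cfsg.Out S := ((a ^ m : A) : Cfsg.Out S) with hb
  have hbA : b ∈ A := (a ^ m : A).2
  have hc : MulAut.conj g b ∈ f.range := hg ⟨b, hbA, rfl⟩
  have hoc : orderOf (MulAut.conj g b) = N := by
    rw [← hob]; exact orderOf_injective (MulAut.conj g).toMonoidHom (MulAut.conj g).injective b
  have hNker : N.Coprime (Nat.card f.ker) := by
    rw [Nat.coprime_iff_gcd_eq_one]
    by_contra hne
    obtain ⟨p, hp, hd⟩ := Nat.exists_prime_and_dvd hne
    exact hker p hp (hNK p hp (hd.trans (Nat.gcd_dvd_left _ _))) (hd.trans (Nat.gcd_dvd_right _ _))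
  obtain ⟨γ, hγ, hoγ⟩ := exists_lift f hNker hc hoc
  obtain ⟨g₀, rfl⟩ := QuotientGroup.mk'_surjective (Cfsg.Inn S) g
  obtain ⟨h₀, hh₀, hh₁⟩ := hA hbA
  refine ⟨γ, g₀, hoγ, ?_, ?_⟩
  · apply Nat.dvd_antisymm
    · rw [← hoγ]; exact orderOf_map_dvd Ψ γ
    · rw [← hoc, ← hγ]; exact orderOf_map_dvd π (Ψ γ)
  · -- g₀⁻¹ Ψ γ g₀ = h₀ * inner
    have h3 : π (g₀⁻¹ * Ψ γ * g₀) = π h₀ := by
      have h4 : π (Ψ γ) = π g₀ * π h₀ * (π g₀)⁻¹ := by
        have h5 : f γ = MulAut.conj (π g₀) (π h₀) := by rw [hγ, hh₁]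
        rw [MulAut.conj_apply] at h5
        exact h5
      rw [map_mul, map_mul, map_inv, h4]
      group
    have h6 : h₀⁻¹ * (g₀⁻¹ * Ψ γ * g₀) ∈ Cfsg.Inn S := by
      rw [← QuotientGroup.eq_one_iff]
      have : π (h₀⁻¹ * (g₀⁻¹ * Ψ γ * g₀)) = 1 := by rw [map_mul, h3, map_inv, inv_mul_cancel]
      exact this
    have h7 := H.mul_mem hh₀ (hH h6)
    rwa [mul_inv_cancel_left] at h7

section rows

variable {K L : Set ℕ}

/-- A prime outside `K` dividing `|H / Inn S|` and a prime in `L`. -/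
theorem pair_field (hc : center S = ⊥) (FA : FieldAct S K L) {H : Subgroup (MulAut S)} (hH : Cfsg.Inn S ≤ H)
    {p s : ℕ} (hp : p.Prime) (hpK : p ∉ K) (hd : p ∣ Nat.card (H.map (QuotientGroup.mk' (Cfsg.Inn S)))) (hs : s ∈ L) :
    Pair p s H := by
  have hfin : Finite (MulAut S) := finite_mulAut
  have : Fact p.Prime := ⟨hp⟩
  obtain ⟨hsol, Γ, i1, i2, i3, Ψ, h1, h2, h3⟩ := FA
  obtain ⟨a, ha⟩ := exists_prime_orderOf_dvd_card' p hd
  have hcA : Nat.card (zpowers (a : Cfsg.Out S)) = p := by rw [Nat.card_zpowers, Subgroup.orderOf_coe, ha]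
  obtain ⟨γ, g, hγ, hγ2, hg⟩ := exists_conj_mem hsol h1 h2 hH (N := p)
    (fun p' hp' hd' => by rw [(Nat.prime_dvd_prime_iff_eq hp' hp).1 hd']; exact hpK)
    (zpowers (a : Cfsg.Out S)) (by rw [zpowers_le]; exact a.2)
    (fun p' hp' hd' => by rw [hcA] at hd'; rw [(Nat.prime_dvd_prime_iff_eq hp' hp).1 hd']; exact hpK)
    (by rw [hcA])
  obtain ⟨x, hx, hx'⟩ := h3 γ (by rw [hγ]; exact hp) (by rw [hγ]; exact hpK) s hs
  have hx1 : MulAut.conj x ∈ Cfsg.Inn S := ⟨x, rfl⟩
  have hx2 : g⁻¹ * MulAut.conj x * g ∈ Cfsg.Inn S := by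
    have := (inferInstance : (Cfsg.Inn S).Normal).conj_mem _ hx1 g⁻¹
    rwa [inv_inv] at this
  refine ⟨⟨_, hg⟩, ⟨_, hH hx2⟩, ?_, ?_, ?_⟩
  · rw [← Subgroup.orderOf_coe]
    show orderOf (g⁻¹ * Ψ γ * g) = p
    rw [← hγ2]
    have := orderOf_injective (MulAut.conj g⁻¹).toMonoidHom (MulAut.conj g⁻¹).injective (Ψ γ)
    rw [← this]
    show _ = orderOf (MulAut.conj g⁻¹ (Ψ γ))
    rw [MulAut.conj_apply, inv_inv]
  · rw [← Subgroup.orderOf_coe]
    show orderOf (g⁻¹ * MulAut.conj x * g) = s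
    rw [← hx, ← orderOf_injective (MulAut.conj : S →* MulAut S) (conj_injective hc) x]
    have := orderOf_injective (MulAut.conj g⁻¹).toMonoidHom (MulAut.conj g⁻¹).injective (MulAut.conj x)
    rw [← this]
    show _ = orderOf (MulAut.conj g⁻¹ (MulAut.conj x))
    rw [MulAut.conj_apply, inv_inv]
  · apply Subtype.ext
    show g⁻¹ * Ψ γ * g * (g⁻¹ * MulAut.conj x * g) = g⁻¹ * MulAut.conj x * g * (g⁻¹ * Ψ γ * g)
    have h4 : Ψ γ * MulAut.conj x = MulAut.conj x * Ψ γ := by
      ext y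
      rw [MulAut.mul_apply, MulAut.mul_apply, MulAut.conj_apply, MulAut.conj_apply, map_mul, map_mul, map_inv, hx']
    calc g⁻¹ * Ψ γ * g * (g⁻¹ * MulAut.conj x * g) = g⁻¹ * (Ψ γ * MulAut.conj x) * g := by group
      _ = g⁻¹ * (MulAut.conj x * Ψ γ) * g := by rw [h4]
      _ = _ := by group

/-- Two primes outside `K` dividing `|H / Inn S|`. -/
theorem pair_field_two (FA : FieldAct S K L) {H : Subgroup (MulAut S)} (hH : Cfsg.Inn S ≤ H)
    {p s : ℕ} (hp : p.Prime) (hs : s.Prime) (hps : p ≠ s) (hpK : p ∉ K) (hsK : s ∉ K)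
    (hd : p ∣ Nat.card (H.map (QuotientGroup.mk' (Cfsg.Inn S))))
    (hd' : s ∣ Nat.card (H.map (QuotientGroup.mk' (Cfsg.Inn S)))) :
    Pair p s H := by
  have hfin : Finite (MulAut S) := finite_mulAut
  obtain ⟨hsol, Γ, i1, i2, i3, Ψ, h1, h2, -⟩ := FA
  set Hb := H.map (QuotientGroup.mk' (Cfsg.Inn S)) with hHb
  have hsolH : Group.IsSolvable Hb := inferInstance
  have hn0 : Nat.card Hb ≠ 0 := Nat.card_pos.ne'
  set n := Nat.card Hb with hn
  -- the Hall subgroup
  have hco : (ordProj[p] n).Coprime (ordProj[s] n) := Nat.Coprime.pow _ _ ((Nat.coprime_primes hp hs).2 hps)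
  obtain ⟨n', hn'⟩ : (ordProj[p] n) * (ordProj[s] n) ∣ n := hco.mul_dvd_of_dvd_of_dvd (Nat.ordProj_dvd n p) (Nat.ordProj_dvd n s)
  have hn'0 : n' ≠ 0 := by rintro rfl; rw [mul_zero] at hn'; exact hn0 hn'
  have hP0 : ordProj[p] n ≠ 0 := pow_ne_zero _ hp.ne_zero
  have hS0 : ordProj[s] n ≠ 0 := pow_ne_zero _ hs.ne_zero
  have hpn' : ¬ p ∣ n' := by
    intro hc
    have h3 := hp.factorization_pos_of_dvd hn'0 hc
    have h4 : n.factorization p = ((ordProj[p] n) * (ordProj[s] n) * n').factorization p := by rw [← hn']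
    rw [Nat.factorization_mul (mul_ne_zero hP0 hS0) hn'0, Nat.factorization_mul hP0 hS0, Finsupp.add_apply,
      Finsupp.add_apply, hp.factorization_pow, Finsupp.single_eq_same] at h4
    omega
  have hsn' : ¬ s ∣ n' := by
    intro hc
    have h3 := hs.factorization_pos_of_dvd hn'0 hc
    have h4 : n.factorization s = ((ordProj[p] n) * (ordProj[s] n) * n').factorization s := by rw [← hn']
    rw [Nat.factorization_mul (mul_ne_zero hP0 hS0) hn'0, Nat.factorization_mul hP0 hS0, Finsupp.add_apply,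
      Finsupp.add_apply, hs.factorization_pow, Finsupp.single_eq_same] at h4
    omega
  have hcop : ((ordProj[p] n) * (ordProj[s] n)).Coprime n' :=
    Nat.Coprime.mul_left (Nat.Coprime.pow_left _ ((Nat.Prime.coprime_iff_not_dvd hp).2 hpn'))
      (Nat.Coprime.pow_left _ ((Nat.Prime.coprime_iff_not_dvd hs).2 hsn'))
  obtain ⟨A, hA⟩ := S0003.result (G := Hb) _ _ hn' hcop
  have hcA : Nat.card (A.map Hb.subtype) = (ordProj[p] n) * (ordProj[s] n) := by
    rw [Subgroup.card_map_of_injective Hb.subtype_injective, hA]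
  have hpr : ∀ p' : ℕ, p'.Prime → p' ∣ Nat.card (A.map Hb.subtype) → p' = p ∨ p' = s := by
    intro p' hp' hdp
    rw [hcA] at hdp
    rcases hp'.dvd_mul.1 hdp with h | h
    · exact Or.inl ((Nat.prime_dvd_prime_iff_eq hp' hp).1 (hp'.dvd_of_dvd_pow h))
    · exact Or.inr ((Nat.prime_dvd_prime_iff_eq hp' hs).1 (hp'.dvd_of_dvd_pow h))
  obtain ⟨γ, g, hγ, hγ2, hg⟩ := exists_conj_mem hsol h1 h2 hH (N := p * s)
    (fun p' hp' hdp => by
      rcases hp'.dvd_mul.1 hdp with h | h
      · rw [(Nat.prime_dvd_prime_iff_eq hp' hp).1 h]; exact hpK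
      · rw [(Nat.prime_dvd_prime_iff_eq hp' hs).1 h]; exact hsK)
    (A.map Hb.subtype) (Subgroup.map_subtype_le _)
    (fun p' hp' hdp => by
      rcases hpr p' hp' hdp with rfl | rfl
      · exact hpK
      · exact hsK)
    (by
      rw [hcA]
      refine mul_dvd_mul ?_ ?_
      · exact dvd_pow_self p (hp.factorization_pos_of_dvd hn0 hd).ne'
      · exact dvd_pow_self s (hs.factorization_pos_of_dvd hn0 hd').ne')
  apply pair_of_orderOf hp hs (g := ⟨_, hg⟩)
  rw [← Subgroup.orderOf_coe]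
  show p * s ∣ orderOf (g⁻¹ * Ψ γ * g)
  have h5 := orderOf_injective (MulAut.conj g⁻¹).toMonoidHom (MulAut.conj g⁻¹).injective (Ψ γ)
  have h6 : (MulAut.conj g⁻¹).toMonoidHom (Ψ γ) = g⁻¹ * Ψ γ * g := by
    show MulAut.conj g⁻¹ (Ψ γ) = _
    rw [MulAut.conj_apply, inv_inv]
  rw [← h6, h5, hγ2]

/-- If `p ∤ |H / Inn S|` the Sylow `p`-subgroups of `H` are those of `S`. -/
theorem comm_of_not_dvd (hc : center S = ⊥) {H : Subgroup (MulAut S)} {p : ℕ} [hp : Fact p.Prime]
    (hab : ∀ P : Sylow p S, IsMulCommutative (P : Subgroup S))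
    (hd : ¬ p ∣ Nat.card (H.map (QuotientGroup.mk' (Cfsg.Inn S)))) (P : Sylow p H) :
    IsMulCommutative (P : Subgroup H) := by
  have hfin : Finite (MulAut S) := finite_mulAut
  set f : H →* Cfsg.Out S := (QuotientGroup.mk' (Cfsg.Inn S)).comp H.subtype with hf
  have h1 : ∀ x ∈ P, f x = 1 := by
    intro x hx
    have h2 : orderOf (f x) ∣ Nat.card (H.map (QuotientGroup.mk' (Cfsg.Inn S))) := by
      have h3 : orderOf (⟨f x, ⟨x, x.2, rfl⟩⟩ : H.map (QuotientGroup.mk' (Cfsg.Inn S))) ∣ _ := orderOf_dvd_natCard _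
      rwa [← Subgroup.orderOf_coe] at h3
    obtain ⟨k, hk⟩ := P.isPGroup' ⟨x, hx⟩
    have h4 : (x : H) ^ p ^ k = 1 := congrArg Subtype.val hk
    have h5 : orderOf (f x) ∣ p ^ k := by
      apply orderOf_dvd_of_pow_eq_one
      rw [← map_pow, h4, map_one]
    obtain ⟨j, -, hj⟩ := (Nat.dvd_prime_pow hp.out).1 h5
    rcases Nat.eq_zero_or_pos j with rfl | hj0
    · rw [pow_zero] at hj
      exact orderOf_eq_one_iff.1 hj
    · exact absurd ((hj ▸ dvd_pow_self p hj0.ne').trans h2) hd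
  -- elements of P are inner
  have h2 : ∀ x ∈ P, ∃ s : S, MulAut.conj s = (x : MulAut S) := fun x hx =>
    (QuotientGroup.eq_one_iff (x : MulAut S)).1 (h1 x hx)
  set Q : Subgroup S := ((P : Subgroup H).map H.subtype).comap (MulAut.conj : S →* MulAut S) with hQ
  have hQp : IsPGroup p Q := (P.isPGroup'.map H.subtype).comap_of_injective _ (conj_injective hc)
  obtain ⟨R, hR⟩ := hQp.exists_le_sylow
  have hRc := hab R
  refine ⟨⟨fun a b => ?_⟩⟩
  obtain ⟨s, hs⟩ := h2 a a.2
  obtain ⟨t, ht⟩ := h2 b b.2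
  have hs' : s ∈ Q := ⟨a, a.2, hs.symm⟩
  have ht' : t ∈ Q := ⟨b, b.2, ht.symm⟩
  have h3 : (⟨s, hR hs'⟩ : (R : Subgroup S)) * ⟨t, hR ht'⟩ = ⟨t, hR ht'⟩ * ⟨s, hR hs'⟩ := hRc.is_comm.comm _ _
  have h4 : s * t = t * s := congrArg Subtype.val h3
  apply Subtype.ext
  apply Subtype.ext
  show ((a : H) : MulAut S) * ((b : H) : MulAut S) = ((b : H) : MulAut S) * ((a : H) : MulAut S)
  rw [← hs, ← ht, ← map_mul, ← map_mul, h4]

/-- **The general argument.** -/
theorem main (hc : center S = ⊥) (FA : FieldAct S K L) (hab : AbSyl S K) {H : Subgroup (MulAut S)}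
    (hH : Cfsg.Inn S ≤ H)
    (hKL : ∀ s ∈ K, s.Prime → s ∈ L)
    (hpair : ∀ p ∈ K, ∀ q ∈ K, p.Prime → q.Prime → p ≠ q → Concl p q H ∨ Pair p q H) {p q : ℕ} (hp : p.Prime)
    (hq : q.Prime) (hpq : p ≠ q) (hno : ∀ g : H, orderOf g ≠ p * q) : Concl p q H := by
  have key : ∀ {p : ℕ}, p.Prime → p ∉ K → (∀ P : Sylow p H, IsMulCommutative (P : Subgroup H)) ∨
      p ∣ Nat.card (H.map (QuotientGroup.mk' (Cfsg.Inn S))) := by
    intro p hp hpK
    have : Fact p.Prime := ⟨hp⟩
    by_cases hd : p ∣ Nat.card (H.map (QuotientGroup.mk' (Cfsg.Inn S)))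
    · exact Or.inr hd
    · exact Or.inl (comm_of_not_dvd hc (hab p hp hpK) hd)
  have hcop := (Nat.coprime_primes hp hq).2 hpq
  by_cases hpK : p ∈ K
  · by_cases hqK : q ∈ K
    · rcases hpair p hpK q hqK hp hq hpq with h | h
      · exact h
      · exact (h.not hcop hno).elim
    · rcases key hq hqK with h | h
      · exact Or.inr h
      · exact ((pair_field hc FA hH hq hqK h (hKL p hpK hp)).symm.not hcop hno).elim
  · rcases key hp hpK with h | h
    · exact Or.inl h
    by_cases hqK : q ∈ K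
    · exact ((pair_field hc FA hH hp hpK h (hKL q hqK hq)).not hcop hno).elim
    · rcases key hq hqK with h' | h'
      · exact Or.inr h'
      · exact ((pair_field_two FA hH hp hq hpq hpK hqK h h').not hcop hno).elim

/-- Pairs in `S` give pairs in `H`. -/
theorem pair_inn (hc : center S = ⊥) {H : Subgroup (MulAut S)} (hH : Cfsg.Inn S ≤ H) {p q : ℕ} (h : Pair p q S) :
    Pair p q H :=
  h.map ((MulAut.conj : S →* MulAut S).codRestrict H (fun s => hH ⟨s, rfl⟩))
    (fun a b hab => conj_injective hc (congrArg Subtype.val hab))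

/-- The general argument with all pairs in `S`. -/
theorem main_pairs (hc : center S = ⊥) (FA : FieldAct S K L) (hab : AbSyl S K) (hP : Pairs S K)
    (hKL : ∀ s ∈ K, s.Prime → s ∈ L) {H : Subgroup (MulAut S)}
    (hH : Cfsg.Inn S ≤ H) {p q : ℕ} (hp : p.Prime)
    (hq : q.Prime) (hpq : p ≠ q) (hno : ∀ g : H, orderOf g ≠ p * q) : Concl p q H :=
  main hc FA hab hH hKL (fun p hp q hq hp' hq' hpq => Or.inr (pair_inn hc hH (hP p hp q hq hp' hq' hpq))) hp hq hpq hno

end rows

end Cfsg.Agent.H545.LT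
end

-- part: H545/LT/Row
section
/-!
# Rows for S4232

`Row S` : the conclusion of S4232 for all the groups between `Inn S` and `Aut S`; transport.
-/

set_option autoImplicit false

namespace Cfsg.Agent.H545.LT

open Cfsg.Agent.H545.PQ Subgroup

universe u v

/-- The conclusion of S4232. -/
def Row (S : Type u) [Group S] : Prop :=
  ∀ H : Subgroup (MulAut S), Cfsg.Inn S ≤ H → ∀ p q : ℕ, p.Prime → q.Prime → p ≠ q →
    (∀ g : H, orderOf g ≠ p * q) → Concl p q H

theorem concl_of_equiv {X : Type u} [Group X] [Finite X] {Y : Type v} [Group Y] [Finite Y] (e : Y ≃* X) {p q : ℕ}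
    [Fact p.Prime] [Fact q.Prime] (h : Concl p q X) : Concl p q Y := by
  rcases h with h | h
  · exact Or.inl (comm_sylow_of_injective e.toMonoidHom e.injective h)
  · exact Or.inr (comm_sylow_of_injective e.toMonoidHom e.injective h)

theorem Row.equiv {S : Type u} [Group S] [Finite S] {T : Type v} [Group T] (h : Row S) (e : S ≃* T) : Row T := by
  intro H hH p q hp hq hpq hno
  have : Fact p.Prime := ⟨hp⟩
  have : Fact q.Prime := ⟨hq⟩
  have hT : Finite T := Finite.of_equiv S e.toEquiv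
  have h1 : Finite (MulAut S) := finite_mulAut
  have h2 : Finite (MulAut T) := finite_mulAut
  let E : MulAut S ≃* MulAut T := MulAut.congr e
  let f : H.comap E.toMonoidHom ≃* H :=
    { toFun := fun x => ⟨E x, x.2⟩
      invFun := fun y => ⟨E.symm y, by
        show E (E.symm y) ∈ H
        rw [E.apply_symm_apply]; exact y.2⟩
      left_inv := fun x => Subtype.ext (E.symm_apply_apply x.1)
      right_inv := fun y => Subtype.ext (E.apply_symm_apply y.1)
      map_mul' := fun a b => Subtype.ext (map_mul E a.1 b.1) }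
  refine concl_of_equiv f.symm (h (H.comap E.toMonoidHom) ?_ p q hp hq hpq ?_)
  · intro φ hφ
    exact hH ((congr_mem_inn e).2 hφ)
  · intro g hg
    exact hno (f g) (by rw [← hg]; exact orderOf_injective f.toMonoidHom f.injective g)

/-- The row from the three ingredients. -/
theorem row_of {S : Type u} [Group S] [Finite S] {K L : Set ℕ} (hc : center S = ⊥) (FA : FieldAct S K L)
    (hab : AbSyl S K) (hP : Pairs S K) (hKL : ∀ s ∈ K, s.Prime → s ∈ L) : Row S := fun _ hH _ _ hp hq hpq hno =>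
  main_pairs hc FA hab hP hKL hH hp hq hpq hno

/-- A pair from an element of the right order. -/
theorem pair_of_exists {S : Type u} [Group S] [Finite S] {p q : ℕ} (hp : p.Prime) (hq : q.Prime)
    (h : ∃ g : S, orderOf g = p * q) : Pair p q S := by
  obtain ⟨g, hg⟩ := h
  exact pair_of_orderOf hp hq (g := g) (by rw [hg])

theorem center_bot {S : Type u} [Group S] [IsSimpleGroup S] (h : ¬ IsMulCommutative S) : center S = ⊥ := by
  rcases (inferInstance : (center S).Normal).eq_bot_or_eq_top with h1 | h1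
  · exact h1
  · exfalso
    apply h
    refine ⟨⟨fun a b => ?_⟩⟩
    have h2 : b ∈ center S := by rw [h1]; trivial
    exact mem_center_iff.1 h2 a

end Cfsg.Agent.H545.LT
end

-- part: H545/LT/RowPSL
section
/-!
# The row `PSL_n(q)`, `n ≥ 4`
-/

set_option autoImplicit false

namespace Cfsg.Agent.H545.LT

open Cfsg.Agent.H545.PQ Subgroup Cfsg.Agent.H72

/-- The primes with a possibly non-abelian Sylow subgroup for a group with a natural module of dimension `N` over the field
with `q` elements, `q` a power of `r`; `g` : further primes. -/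
def KS (r N g q : ℕ) : Set ℕ := {p | p = 2 ∨ p = r ∨ p ∣ g ∨ (¬ p ∣ q ∧ p * orderOf ((q : ℕ) : ZMod p) ≤ N)}

theorem not_dvd_card {F : Type*} [Field F] [Fintype F] {r : ℕ} [hr : Fact r.Prime] [CharP F r] {p : ℕ} (hp : p.Prime)
    (hpr : p ≠ r) : ¬ p ∣ Fintype.card F := by
  obtain ⟨f, -, hf⟩ := FiniteField.card F r
  rw [hf]
  intro h
  exact hpr ((Nat.prime_dvd_prime_iff_eq hp hr.out).1 (hp.dvd_of_dvd_pow h))

theorem dvd_card {F : Type*} [Field F] [Fintype F] (r : ℕ) [hr : Fact r.Prime] [CharP F r] : r ∣ Fintype.card F := by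
  obtain ⟨f, -, hf⟩ := FiniteField.card F r
  rw [hf]
  exact dvd_pow_self r f.ne_zero

theorem ord_pos {q p : ℕ} (hp : p.Prime) (h : ¬ p ∣ q) : 1 ≤ orderOf ((q : ℕ) : ZMod p) := AdjOrth.ee_pos hp h

/-- `p = 3` : the order of `q` modulo `3` is at most `2`. -/
theorem ord_three {q : ℕ} (h : ¬ 3 ∣ q) : orderOf ((q : ℕ) : ZMod 3) ≤ 2 := by
  have : Fact (Nat.Prime 3) := ⟨Nat.prime_three⟩
  have h0 : (q : ZMod 3) ≠ 0 := fun hc => h ((ZMod.natCast_eq_zero_iff q 3).1 hc)
  exact Nat.le_of_dvd (by norm_num) (ZMod.orderOf_dvd_card_sub_one h0)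

theorem finite_psl {F : Type*} [Field F] [Fintype F] (n : ℕ) : Finite (Matrix.ProjectiveSpecialLinearGroup (Fin n) F) := by
  classical
  infer_instance

section psl

variable {F : Type} [Field F] [Fintype F] {r : ℕ} [hr : Fact r.Prime] [CharP F r] {n : ℕ}

theorem psl_mem {p : ℕ} (hp : p.Prime)
    (h : p ∈ KS r n (Nat.gcd n (Fintype.card F - 1)) (Fintype.card F)) (hn : 1 ≤ n) :
    p = 2 ∨ p = r ∨ (¬ p ∣ Fintype.card F ∧ p * orderOf ((Fintype.card F : ℕ) : ZMod p) ≤ n) := by
  rcases h with h | h | h | h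
  · exact Or.inl h
  · exact Or.inr (Or.inl h)
  · right; right
    have h1 : p ∣ Fintype.card F - 1 := h.trans (Nat.gcd_dvd_right _ _)
    have h2 : p ∣ n := h.trans (Nat.gcd_dvd_left _ _)
    have hq : 1 ≤ Fintype.card F := Fintype.card_pos
    have h3 : orderOf ((Fintype.card F : ℕ) : ZMod p) = 1 := (AdjPSL.ee_eq_one_iff hq).2 h1
    refine ⟨fun hc => ?_, ?_⟩
    · have h4 := (Nat.dvd_sub_iff_right hq hc).1 h1
      exact hp.one_lt.ne' (Nat.dvd_one.1 h4)
    · rw [h3, mul_one]
      exact Nat.le_of_dvd hn h2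
  · exact Or.inr (Or.inr h)

theorem psl_abSyl : AbSyl (Matrix.ProjectiveSpecialLinearGroup (Fin n) F)
    (KS r n (Nat.gcd n (Fintype.card F - 1)) (Fintype.card F)) := by
  classical
  intro p hp hpK P
  have : Fact p.Prime := ⟨hp⟩
  have h1 : p ≠ r := fun h => hpK (Or.inr (Or.inl h))
  have h2 := not_dvd_card (F := F) (r := r) hp h1
  refine SylGL.comm_of_hom_quot (F := F) (ι := Fin n) h2 ?_ Matrix.SpecialLinearGroup.toGL
    Matrix.SpecialLinearGroup.toGL_injective _ P
  rw [Fintype.card_fin]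
  by_contra hc
  exact hpK (Or.inr (Or.inr (Or.inr ⟨h2, not_lt.1 hc⟩)))

theorem psl_weight {p : ℕ} (hp : p.Prime)
    (h : p ∈ KS r n (Nat.gcd n (Fintype.card F - 1)) (Fintype.card F)) (hn : 1 ≤ n) :
    AdjPSL.wL (Fintype.card F) p ≤ 2 ∨ 5 * AdjPSL.wL (Fintype.card F) p ≤ n := by
  rw [AdjPSL.wL]
  split_ifs with h1
  · exact Or.inl le_rfl
  · rw [not_or] at h1
    rcases psl_mem hp h hn with rfl | rfl | ⟨h2, h3⟩
    · -- p = 2 divides q or q - 1
      exfalso
      have := Fintype.card_pos (α := F)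
      omega
    · exact absurd (dvd_card (F := F) p) h1.1
    · rcases Nat.lt_or_ge p 5 with h5 | h5
      · left
        have h6 : p = 2 ∨ p = 3 := by
          have := hp.two_le
          interval_cases p
          · exact Or.inl rfl
          · exact Or.inr rfl
          · exact absurd hp (by norm_num)
        rcases h6 with rfl | rfl
        · have := Fintype.card_pos (α := F)
          omega
        · exact ord_three h2
      · right
        exact (Nat.mul_le_mul_right _ h5).trans h3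

theorem psl_pairs (hn : 4 ≤ n) : Pairs (Matrix.ProjectiveSpecialLinearGroup (Fin n) F)
    (KS r n (Nat.gcd n (Fintype.card F - 1)) (Fintype.card F)) := by
  have := finite_psl (F := F) n
  intro p hpK s hsK hp hs hps
  refine pair_of_exists hp hs (AdjPSL.adj_of_wL hp hs hps ?_)
  have h1 := psl_weight hp hpK (by omega)
  have h2 := psl_weight hs hsK (by omega)
  omega

/-- **The row `PSL_n(q)`, `n ≥ 4`.** -/
theorem row_psl (hn : 4 ≤ n) (hc : center (Matrix.ProjectiveSpecialLinearGroup (Fin n) F) = ⊥)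
    (FA : FieldAct (Matrix.ProjectiveSpecialLinearGroup (Fin n) F) {p | p = 2 ∨ p ∣ Nat.gcd n (Fintype.card F - 1)}
      {s | s.Prime ∧ (s = 2 ∨ s = r ∨ s ≤ n)}) : Row (Matrix.ProjectiveSpecialLinearGroup (Fin n) F) := by
  have := finite_psl (F := F) n
  refine row_of (K := KS r n (Nat.gcd n (Fintype.card F - 1)) (Fintype.card F)) hc (FA.mono ?_ subset_rfl) psl_abSyl
    (psl_pairs hn) ?_
  · rintro p (hp | hp)
    · exact Or.inl hp
    · exact Or.inr (Or.inr (Or.inl hp))
  · intro s hs hsp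
    refine ⟨hsp, ?_⟩
    rcases psl_mem hsp hs (by omega) with h | h | ⟨h, h'⟩
    · exact Or.inl h
    · exact Or.inr (Or.inl h)
    · right; right
      calc s = s * 1 := (mul_one s).symm
        _ ≤ s * orderOf ((Fintype.card F : ℕ) : ZMod s) := Nat.mul_le_mul_left _ (ord_pos hsp h)
        _ ≤ n := h'

end psl

end Cfsg.Agent.H545.LT
end
end

-- part: H545/LT/RowPSLTwo
section
set_option linter.all false
open scoped Cfsg.Agent.FastGrp

/-!
# The row `PSL_2(q)`
-/

set_option autoImplicit false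

namespace Cfsg.Agent.H545.LT

open Cfsg.Agent.H545.PQ Subgroup

variable {F : Type} [Field F] [Fintype F] {r : ℕ} [hr : Fact r.Prime] [CharP F r]

/-- the upper unitriangular matrices -/
def upMat (F : Type) [Field F] : Multiplicative F →* Matrix.SpecialLinearGroup (Fin 2) F where
  toFun t := ⟨!![1, t.toAdd; 0, 1], by rw [Matrix.det_fin_two_of]; ring⟩
  map_one' := by
    apply Subtype.ext
    show !![1, (0 : F); 0, 1] = 1
    exact Matrix.one_fin_two.symm
  map_mul' a b := by
    apply Subtype.ext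
    show !![1, a.toAdd + b.toAdd; 0, 1] = !![1, a.toAdd; 0, 1] * !![1, b.toAdd; 0, 1]
    rw [Matrix.mul_fin_two]
    congr 1
    simp [add_comm]

omit [Fintype F] in
theorem upMat_injective : Function.Injective (upMat F) := by
  intro a b h
  have h1 := congrArg (fun g : Matrix.SpecialLinearGroup (Fin 2) F => (g : Matrix (Fin 2) (Fin 2) F) 0 1) h
  exact h1

theorem comm_sl_two (P : Sylow r (Matrix.SpecialLinearGroup (Fin 2) F)) :
    IsMulCommutative (P : Subgroup (Matrix.SpecialLinearGroup (Fin 2) F)) := by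
  classical
  obtain ⟨f, -, hf⟩ := FiniteField.card F r
  have hq1 : 1 < Fintype.card F := Fintype.one_lt_card
  have hc : Nat.card (Multiplicative F) = r ^ (Nat.card (Matrix.SpecialLinearGroup (Fin 2) F)).factorization r := by
    rw [ClassicalGeometry.PSL2Basic.card_SL2]
    have h1 : Nat.card (Multiplicative F) = Fintype.card F := by
      rw [Nat.card_congr Multiplicative.toAdd, Nat.card_eq_fintype_card]
    rw [h1, hf]
    congr 1
    have hr0 : r ^ (f : ℕ) ≠ 0 := pow_ne_zero _ hr.out.ne_zero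
    have h2 : ¬ r ∣ (r ^ (f : ℕ)) ^ 2 - 1 := by
      intro h3
      have h4 : r ∣ (r ^ (f : ℕ)) ^ 2 := dvd_pow (dvd_pow_self r f.ne_zero) two_ne_zero
      have h5 := (Nat.dvd_sub_iff_right (Nat.one_le_pow _ _ (Nat.pos_of_ne_zero hr0)) h4).1 h3
      exact hr.out.one_lt.ne' (Nat.dvd_one.1 h5)
    have h6 : (r ^ (f : ℕ)) ^ 2 - 1 ≠ 0 := by
      rw [← hf]
      have : 1 < Fintype.card F ^ 2 := Nat.one_lt_pow two_ne_zero hq1
      omega
    rw [Nat.factorization_mul hr0 h6, Finsupp.add_apply, Nat.factorization_eq_zero_of_not_dvd h2,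
      hr.out.factorization_pow, Finsupp.single_eq_same, add_zero]
  obtain ⟨e⟩ := H130.Homo.sylow_equiv_of_hom (upMat F) upMat_injective hc P
  refine ⟨⟨fun a b => e.injective ?_⟩⟩
  rw [map_mul, map_mul, mul_comm]

theorem psl_two_abSyl (r : ℕ) [hr : Fact r.Prime] [CharP F r] : AbSyl (Matrix.ProjectiveSpecialLinearGroup (Fin 2) F)
    {p | p = 2 ∨ p ∣ Nat.gcd 2 (Fintype.card F - 1)} := by
  classical
  intro p hp hpK P
  have : Fact p.Prime := ⟨hp⟩
  have hp2 : p ≠ 2 := fun h => hpK (Or.inl h)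
  by_cases h1 : p = r
  · subst h1
    exact SylGL.comm_of_surjective (QuotientGroup.mk' _) (QuotientGroup.mk'_surjective _)
      (comm_sl_two (F := F) (r := p)) P
  · have h2 := not_dvd_card (F := F) (r := r) hp h1
    refine SylGL.comm_of_hom_quot (F := F) (ι := Fin 2) h2 ?_ Matrix.SpecialLinearGroup.toGL
      Matrix.SpecialLinearGroup.toGL_injective _ P
    rw [Fintype.card_fin]
    have h3 := ord_pos hp h2
    have h4 := hp.two_le
    calc 2 < p := lt_of_le_of_ne h4 (Ne.symm hp2)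
      _ = p * 1 := (mul_one p).symm
      _ ≤ _ := Nat.mul_le_mul_left _ h3

/-- **The row `PSL_2(q)`.** -/
theorem row_psl_two (hc : center (Matrix.ProjectiveSpecialLinearGroup (Fin 2) F) = ⊥)
    (FA : FieldAct (Matrix.ProjectiveSpecialLinearGroup (Fin 2) F) {p | p = 2 ∨ p ∣ Nat.gcd 2 (Fintype.card F - 1)}
      {s | s.Prime ∧ (s = 2 ∨ s = r ∨ s ≤ 2)}) : Row (Matrix.ProjectiveSpecialLinearGroup (Fin 2) F) := by
  have := finite_psl (F := F) 2
  have key : ∀ p : ℕ, p.Prime → p ∈ {p | p = 2 ∨ p ∣ Nat.gcd 2 (Fintype.card F - 1)} → p = 2 := by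
    rintro p hp (h | h)
    · exact h
    · exact (Nat.prime_dvd_prime_iff_eq hp Nat.prime_two).1 (h.trans (Nat.gcd_dvd_left _ _))
  refine row_of hc FA (psl_two_abSyl r) ?_ ?_
  · intro p hp q hq hp' hq' hpq
    exact absurd ((key p hp' hp).trans (key q hq' hq).symm) hpq
  · intro s hs hsp
    exact ⟨hsp, Or.inl (key s hsp hs)⟩

end Cfsg.Agent.H545.LT
end
end
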